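import Mathlib

/-!
Abstract Shintani descent: elementary identities for `g = a * (σ a)⁻¹` and `x = ((σ ^ e) a)⁻¹ * a`.
-/

set_option autoImplicit false

namespace Cfsg.Agent.Shintani

variable {X : Type*} [Group X] (σ : MulAut X)

theorem apply_pow_comm (e : ℕ) (a : X) : (σ ^ e) (σ a) = σ ((σ ^ e) a) := by
  rw [← MulAut.mul_apply, ← MulAut.mul_apply, ← pow_succ, ← pow_succ']

theorem pow_apply_fixed {x : X} (hx : σ x = x) : ∀ e : ℕ, (σ ^ e) x = x
  | 0 => by simp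
  | e + 1 => by rw [pow_succ, MulAut.mul_apply, hx, pow_apply_fixed hx e]

theorem norm_eq {g a : X} (ha : g = a * (σ a)⁻¹) (d : ℕ) :
    ((List.range d).map (fun i => (σ ^ i) g)).prod = a * ((σ ^ d) a)⁻¹ := by
  induction d with
  | zero => simp
  | succ d ih =>
    rw [List.range_succ, List.map_append, List.prod_append, ih, ha]
    simp only [List.map_cons, List.map_nil, List.prod_cons, List.prod_nil, mul_one, map_mul,
      map_inv]
    rw [show (σ ^ d) (σ a) = (σ ^ (d + 1)) a by rw [pow_succ, MulAut.mul_apply]]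
    group

/-- The Shintani image is fixed by `σ`. -/
theorem image_fixed {g a : X} (e : ℕ) (hg : (σ ^ e) g = g) (ha : g = a * (σ a)⁻¹) :
    σ (((σ ^ e) a)⁻¹ * a) = ((σ ^ e) a)⁻¹ * a := by
  have h : (σ ^ e) a * (σ ((σ ^ e) a))⁻¹ = a * (σ a)⁻¹ := by
    rw [ha, map_mul, map_inv, apply_pow_comm] at hg
    exact hg
  rw [map_mul, map_inv]
  calc (σ ((σ ^ e) a))⁻¹ * σ a
      = ((σ ^ e) a)⁻¹ * ((σ ^ e) a * (σ ((σ ^ e) a))⁻¹) * σ a := by group
    _ = ((σ ^ e) a)⁻¹ * a := by rw [h]; group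

theorem pow_apply_eq (e : ℕ) (a : X) : (σ ^ e) a = a * (((σ ^ e) a)⁻¹ * a)⁻¹ := by group

end Cfsg.Agent.Shintani
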